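import Mathlib

set_option autoImplicit false
universe u

open TensorProduct IsLocalRing KaehlerDifferential

namespace Groth.Agent.H5.SmTower

/-- local Jacobian criterion in a tower. -/
theorem local_criterion (A B S : Type u) [CommRing A] [CommRing B] [CommRing S] [IsLocalRing S]
    [Algebra A B] [Algebra B S] [Algebra A S] [IsScalarTower A B S]
    [Algebra.FormallySmooth A S] [Module.Finite S (S ⊗[B] Ω[B⁄A])] [Module.Finite S Ω[S⁄A]]
    [Module.Free S Ω[S⁄A]] :
    Algebra.FormallySmooth B S ↔
      Function.Injective ((KaehlerDifferential.mapBaseChange A B S).lTensor (ResidueField S)) := by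
  rw [← IsLocalRing.split_injective_iff_lTensor_residueField_injective]
  have hex1 := Algebra.H1Cotangent.exact_map_δ A B S
  have hex2 := Algebra.H1Cotangent.exact_δ_mapBaseChange A B S
  have hex3 := KaehlerDifferential.exact_mapBaseChange_map A B S
  have hsurj : Function.Surjective (KaehlerDifferential.map A B S S) :=
    KaehlerDifferential.map_surjective A B S
  constructor
  · intro hfs
    -- H1(S/B) = 0 so mapBaseChange injective
    have hinj : Function.Injective (KaehlerDifferential.mapBaseChange A B S) := by
      rw [injective_iff_map_eq_zero]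
      intro x hx
      obtain ⟨y, rfl⟩ := (hex2 x).mp hx
      have : y = 0 := Subsingleton.elim _ _
      rw [this, map_zero]
    -- the projective quotient splits
    obtain ⟨s, hs⟩ := Module.projective_lifting_property (KaehlerDifferential.map A B S S)
      LinearMap.id hsurj
    exact ((hex3.split_tfae'.out 0 1 rfl rfl).mp ⟨hinj, s, hs⟩).2
  · rintro ⟨l', hl'⟩
    have hinj : Function.Injective (KaehlerDifferential.mapBaseChange A B S) :=
      Function.HasLeftInverse.injective ⟨l', LinearMap.congr_fun hl'⟩
    obtain ⟨-, s, hs⟩ := (hex3.split_tfae'.out 1 0 rfl rfl).mp ⟨hsurj, l', hl'⟩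
    refine ⟨Module.Projective.of_split s (KaehlerDifferential.map A B S S) hs, ?_⟩
    refine ⟨fun x y => ?_⟩
    have h0 : ∀ z : Algebra.H1Cotangent B S, z = 0 := by
      intro z
      have h1 : Algebra.H1Cotangent.δ A B S z = 0 := by
        apply hinj
        rw [map_zero]
        exact (hex2 _).mpr ⟨z, rfl⟩
      obtain ⟨w, rfl⟩ := (hex1 z).mp h1
      have : w = 0 := Subsingleton.elim _ _
      rw [this, map_zero]
    rw [h0 x, h0 y]

end Groth.Agent.H5.SmTower

namespace Groth.Agent.H5.SmTower

section glob
variable (A B C : Type u) [CommRing A] [CommRing B] [CommRing C] [Algebra A B] [Algebra B C]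
  [Algebra A C] [IsScalarTower A B C] (q : Ideal C) [q.IsPrime]

local notation "S'" => Localization.AtPrime q
local notation "κ'" => IsLocalRing.ResidueField (Localization.AtPrime q)

noncomputable def e₁ : κ' ⊗[C] (C ⊗[B] Ω[B⁄A]) ≃ₗ[κ'] κ' ⊗[S'] (S' ⊗[B] Ω[B⁄A]) :=
  (AlgebraTensorModule.cancelBaseChange B C κ' κ' Ω[B⁄A]).trans
    (AlgebraTensorModule.cancelBaseChange B S' κ' κ' Ω[B⁄A]).symm

noncomputable def eΩ : S' ⊗[C] Ω[C⁄A] ≃ₗ[S'] Ω[S'⁄A] :=
  haveI := Algebra.FormallyEtale.of_isLocalization (Rₘ := S') q.primeCompl
  KaehlerDifferential.tensorKaehlerEquivOfFormallyEtale A C S'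

noncomputable def e₂ : κ' ⊗[C] Ω[C⁄A] ≃ₗ[κ'] κ' ⊗[S'] Ω[S'⁄A] :=
  (AlgebraTensorModule.cancelBaseChange C S' κ' κ' Ω[C⁄A]).symm.trans
    (AlgebraTensorModule.congr (LinearEquiv.refl κ' κ') (eΩ A C q))

theorem map_map (w : Ω[B⁄A]) :
    KaehlerDifferential.map A A C S' (KaehlerDifferential.map A A B C w) =
      KaehlerDifferential.map A A B S' w := by
  have hw : w ∈ Submodule.span B (Set.range (KaehlerDifferential.D A B)) := by
    rw [KaehlerDifferential.span_range_derivation]; trivial
  induction hw using Submodule.span_induction with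
  | mem x hx =>
    obtain ⟨b, rfl⟩ := hx
    simp only [KaehlerDifferential.map_D]
    rw [← IsScalarTower.algebraMap_apply]
  | zero => simp
  | add x y _ _ hx hy => simp only [map_add, hx, hy]
  | smul b x _ hx =>
    rw [map_smul (KaehlerDifferential.map A A B C), map_smul (KaehlerDifferential.map A A B S'),
      ← algebraMap_smul C b (KaehlerDifferential.map A A B C x),
      map_smul (KaehlerDifferential.map A A C S'), hx, algebraMap_smul]

theorem square (x : κ' ⊗[C] (C ⊗[B] Ω[B⁄A])) :
    e₂ A C q ((KaehlerDifferential.mapBaseChange A B C).lTensor κ' x) =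
      (KaehlerDifferential.mapBaseChange A B S').lTensor κ' (e₁ A B C q x) := by
  induction x using TensorProduct.induction_on with
  | zero => simp
  | add x y hx hy => simp only [map_add, hx, hy]
  | tmul k y =>
    induction y using TensorProduct.induction_on with
    | zero => simp
    | add y z hy hz => simp only [tmul_add, map_add, hy, hz]
    | tmul c w =>
      simp only [e₁, e₂, eΩ, LinearMap.lTensor_tmul, LinearEquiv.trans_apply,
        KaehlerDifferential.mapBaseChange_tmul,
        AlgebraTensorModule.cancelBaseChange_tmul, AlgebraTensorModule.cancelBaseChange_symm_tmul,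
        AlgebraTensorModule.congr_tmul, LinearEquiv.refl_apply,
        KaehlerDifferential.tensorKaehlerEquivOfFormallyEtale_apply]
      rw [one_smul, one_smul, map_smul, map_map, ← algebraMap_smul S' c k,
        ← algebraMap_smul S' c (KaehlerDifferential.map A A B S' w), TensorProduct.smul_tmul]

theorem injective_iff :
    Function.Injective ((KaehlerDifferential.mapBaseChange A B C).lTensor κ') ↔
      Function.Injective ((KaehlerDifferential.mapBaseChange A B S').lTensor κ') := by
  have h1 : ((KaehlerDifferential.mapBaseChange A B S').lTensor κ' : _ → _) ∘ (e₁ A B C q) =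
      (e₂ A C q) ∘ ((KaehlerDifferential.mapBaseChange A B C).lTensor κ') := by
    funext x
    exact (square A B C q x).symm
  rw [← Function.Injective.of_comp_iff' _ (e₁ A B C q).bijective, h1,
    Function.Injective.of_comp_iff (e₂ A C q).injective]

end glob

theorem main (A B C : Type u) [CommRing A] [CommRing B]
    [CommRing C] [Algebra A B] [Algebra B C] [Algebra A C] [IsScalarTower A B C]
    [Algebra.FinitePresentation A B] [Algebra.FinitePresentation A C] (q : Ideal C) [q.IsPrime]
    (hC : Algebra.IsSmoothAt A q) :
    Algebra.IsSmoothAt B q ↔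
      Function.Injective ((KaehlerDifferential.mapBaseChange A B C).lTensor q.ResidueField) := by
  haveI : Algebra.FormallySmooth A (Localization.AtPrime q) := hC
  haveI : Algebra.EssFiniteType C (Localization.AtPrime q) :=
    Algebra.EssFiniteType.of_isLocalization _ q.primeCompl
  haveI : Algebra.EssFiniteType A (Localization.AtPrime q) := Algebra.EssFiniteType.comp A C _
  haveI : Module.FinitePresentation (Localization.AtPrime q) Ω[Localization.AtPrime q⁄A] :=
    inferInstance
  haveI : Module.Free (Localization.AtPrime q) Ω[Localization.AtPrime q⁄A] :=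
    Module.free_of_flat_of_isLocalRing
  show Algebra.FormallySmooth B (Localization.AtPrime q) ↔ _
  rw [local_criterion A B (Localization.AtPrime q)]
  exact (injective_iff A B C q).symm

end Groth.Agent.H5.SmTower
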